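import Groth.Agent.S11769
import Groth.Agent.H28Surf.DivisorH1
import Groth.Agent.H15Site.Invertible
import Groth.Agent.LeadGE.System
import Groth.Agent.H11Sym.InvertibleInverse
import Groth.Agent.H28Pinch.DirectImageTrivial
import Mathlib.Algebra.Homology.DerivedCategory.Ext.EnoughInjectives

/-!
# `Ext¹` out of an invertible module
-/

set_option autoImplicit false
set_option linter.style.haveILetI false
set_option backward.isDefEq.respectTransparency.types false
universe u

open CategoryTheory CategoryTheory.Limits AlgebraicGeometry Opposite TopologicalSpace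
open Groth.Agent.H11Tilde

namespace Groth.Agent.H28Lift

variable {X : Scheme.{u}}

attribute [local instance 10000] H10Coh.hasSheafifyAb H10Coh.hasWeakSheafifyAb H10Coh.hasExtAb H10Coh.enoughInjAb

theorem surjective_app_top {S : ShortComplex X.Modules} (hS : S.ShortExact)
    (h : Subsingleton (Coh.HH X S.X₁ 1)) : Function.Surjective (S.g.app ⊤) := by
  have hS' := hS.map_of_exact (H10Coh.shF X)
  intro b
  let z : Coh.HH X S.X₃ 0 := (H10Coh.HH0Equiv S.X₃).symm b
  have h1 : ((z.comp hS'.extClass (zero_add 1) : Coh.HH X S.X₁ 1)) = 0 := h.elim _ _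
  obtain ⟨t, ht⟩ := Abelian.Ext.covariant_sequence_exact₃ _ hS' z (zero_add 1) h1
  refine ⟨H10Coh.HH0Equiv S.X₂ t, ?_⟩
  refine (H28NT.HH0Equiv_map S.g t).symm.trans ?_
  rw [show LeadFF.Hm S.g 0 t = z from ht]
  exact (H10Coh.HH0Equiv S.X₃).apply_symm_apply b

theorem subsingleton_ext_one [HasExt.{u} X.Modules] [EnoughInjectives X.Modules] {A B N : X.Modules}
    (e : CohB1.tensorMod B A ≅ Coh.structureModule X) (hB : PicF.IsInvertible B)
    (h : Subsingleton (Coh.HH X (CohB1.tensorMod B N) 1)) :
    Subsingleton (Abelian.Ext.{u} A N 1) := by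
  let g := cokernel.π (Injective.ι N)
  let S : ShortComplex X.Modules := ShortComplex.mk (Injective.ι N) g (cokernel.condition _)
  have hS : S.ShortExact := ShortComplex.ShortExact.mk' (ShortComplex.exact_cokernel _) inferInstance inferInstance
  let T := (DCoh.tensorBi (X := X)).obj B
  haveI : T.IsEquivalence := H15Site.Invertible.isEquivalence_of_iso_unit (O := X.sheaf) e
  haveI : T.PreservesZeroMorphisms := Functor.preservesZeroMorphisms_of_full T
  haveI : PreservesFiniteLimits T := inferInstance
  haveI : PreservesFiniteColimits T := inferInstance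
  have hTS : (S.map T).ShortExact := hS.map_of_exact T
  refine subsingleton_of_forall_eq 0 fun x => ?_
  haveI : Injective S.X₂ := inferInstanceAs (Injective (Injective.under N))
  obtain ⟨y, hy⟩ := Abelian.Ext.covariant_sequence_exact₁ A hS x (Abelian.Ext.eq_zero_of_injective _) (zero_add 1)
  obtain ⟨φ, rfl⟩ := (Abelian.Ext.mk₀_bijective A S.X₃).2 y
  let φ' : Coh.structureModule X ⟶ T.obj S.X₃ := e.inv ≫ T.map φ
  obtain ⟨a, ha⟩ := surjective_app_top hTS h (SecTwist.val φ' ⊤)
  have ht : homOfGlobal (T.obj S.X₂) a ≫ T.map g = φ' := by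
    rw [LeadGE.homOfGlobal_comp, show (T.map g).app ⊤ a = SecTwist.val φ' ⊤ from ha]
    refine Scheme.Modules.hom_ext _ _ fun W => ?_
    ext r
    exact (H06Mod.app_unit φ' W r).symm
  have hψ : T.preimage (e.hom ≫ homOfGlobal (T.obj S.X₂) a) ≫ g = φ := T.map_injective (by
    rw [Functor.map_comp, Functor.map_preimage, Category.assoc]
    exact (congrArg (e.hom ≫ ·) ht).trans (e.hom_inv_id_assoc _))
  rw [← hy, ← hψ, ← Abelian.Ext.mk₀_comp_mk₀, Abelian.Ext.comp_assoc_of_second_deg_zero, hS.comp_extClass,
    Abelian.Ext.comp_zero]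

end Groth.Agent.H28Lift
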